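import Cfsg.Agent.Lib.Blocks.LocalBlocks
import Cfsg.Agent.Lib.BlocksNormal.SylowIntersection
import Cfsg.Agent.Lib.BlockDefect.DefectClass
import Cfsg.Agent.S4718

/-!
# Classes of large defect when the other blocks have small defect

* `card_defect_classes_le`: if every block but `B₀` has defect less than `r`, at most `|B₀|` classes
  have defect at least `r`;
* `card_conjClasses_centralizer_le`: so the centraliser of a large `p`-subgroup has boundedly many
  classes;
* `exists_order_bound`: a group with boundedly many classes has bounded order (Landau).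
-/

set_option autoImplicit false

open scoped ComplexConjugate

namespace Cfsg.Agent.TwoDeficiency

open Cfsg Cfsg.Agent.Blocks

universe u

theorem exists_order_bound (k : ℕ) : ∃ N : ℕ, ∀ (X : Type u) [Group X] [Finite X],
    Nat.card (ConjClasses X) ≤ k → Nat.card X ≤ N := by
  obtain ⟨N, hN⟩ := S4718.landau k 1
  refine ⟨N, fun X _ _ hk => ?_⟩
  classical
  have := Fintype.ofFinite X
  have := Fintype.ofFinite (ConjClasses X)
  refine hN ((Finset.univ : Finset (ConjClasses X)).val.map
      fun C => Nat.card ↥(Subgroup.centralizer ({C.out} : Set X))) ?_ ?_ ?_ (Nat.card X) ?_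
  · rw [Multiset.card_map, Finset.card_val, Finset.card_univ, ← Nat.card_eq_fintype_card]
    exact hk
  · intro n hn
    obtain ⟨C, -, rfl⟩ := Multiset.mem_map.mp hn
    exact Nat.card_pos
  · rw [Multiset.map_map]
    show ∑ C : ConjClasses X,
      (1 : ℚ) / (Nat.card ↥(Subgroup.centralizer ({C.out} : Set X)) : ℕ) = 1
    have hsum : ∑ C : ConjClasses X, Nat.card {g : X // IsConj C.out g} = Nat.card X := by
      rw [← Nat.card_sigma]
      refine Nat.card_congr (Equiv.ofBijective (fun s => s.2.1) ⟨?_, ?_⟩)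
      · rintro ⟨C, g, hg⟩ ⟨D, g', hg'⟩ (h : g = g')
        subst h
        have : C = D := by
          rw [← Quotient.out_eq C, ← Quotient.out_eq D]
          exact Quotient.sound (hg.trans hg'.symm)
        subst this
        rfl
      · intro g
        exact ⟨⟨ConjClasses.mk g, g, Quotient.exact (Quotient.out_eq (ConjClasses.mk g))⟩, rfl⟩
    have hX : (Nat.card X : ℚ) ≠ 0 := by exact_mod_cast Nat.card_pos.ne'
    calc _ = ∑ C : ConjClasses X, (Nat.card {g : X // IsConj C.out g} : ℚ) / (Nat.card X : ℚ) := by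
          refine Finset.sum_congr rfl fun C _ => ?_
          rw [← ClassCount.card_class_mul_card_centralizer C.out]
          push_cast
          have : (Nat.card {g : X // IsConj C.out g} : ℚ) ≠ 0 := by
            have : Nonempty {g : X // IsConj C.out g} := ⟨⟨C.out, IsConj.refl _⟩⟩
            exact_mod_cast Nat.card_pos.ne'
          field_simp
      _ = 1 := by rw [← Finset.sum_div, ← Nat.cast_sum, hsum, div_self hX]
  · refine Multiset.mem_map.mpr ⟨ConjClasses.mk 1, Finset.mem_univ_val _, ?_⟩
    have h1 : (ConjClasses.mk (1 : X)).out = 1 := by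
      obtain ⟨c, hc⟩ := isConj_iff.mp
        (Quotient.exact (Quotient.out_eq (ConjClasses.mk (1 : X))) : IsConj _ (1 : X))
      rw [mul_inv_eq_one] at hc
      simpa using hc
    rw [h1, Subgroup.centralizer_eq_top_iff_subset.mpr (by simp), Subgroup.card_top]

variable {G : Type u} [Group G] [Finite G] {p : ℕ} [Fact p.Prime] {M : Ideal AlgInt}

/-- With all blocks but `B₀` of defect less than `r`, the classes of defect at least `r` are at most
as many as the characters of `B₀`. -/
theorem card_defect_classes_le (hM : IsPModular p M) {B₀ : Set (IrrCharacter G)}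
    (hB₀ : IsPBlock M B₀) {r : ℕ}
    (hsmall : ∀ B : Set (IrrCharacter G), IsPBlock M B → B ≠ B₀ → blockDefect p B < r) :
    Nat.card {q : ConjClasses G //
      p ^ r ∣ Nat.card (Subgroup.centralizer ({q.out} : Set G))} ≤ Nat.card B₀ := by
  classical
  have := Fintype.ofFinite G
  have := Fintype.ofFinite (IrrCharacter G)
  have := Fintype.ofFinite (ConjClasses G)
  set κ := {q : ConjClasses G // p ^ r ∣ Nat.card (Subgroup.centralizer ({q.out} : Set G))}
  let U : Matrix κ B₀ ℂ := Matrix.of fun q χ => (Nat.card G : ℂ)⁻¹ *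
    (((χ : IrrCharacter G) : G → ℂ) 1 * conj (((χ : IrrCharacter G) : G → ℂ) q.1.out))
  let V : Matrix B₀ κ ℂ := Matrix.of fun χ q =>
    omega ((χ : IrrCharacter G) : G → ℂ) (classInd q.1.out)
  let d : IrrCharacter G → ℂ := 1 - blockInd B₀
  -- the idempotent of the small blocks at the elements centralised by a large subgroup
  have hd : ∀ (Q : Subgroup G), IsPGroup p Q → p ^ r ≤ Nat.card Q → ∀ x : G,
      Q ≤ Subgroup.centralizer ({x} : Set G) → MemLocalIdeal M (ofOmega d x) := by
    intro Q hQ hQr x hQx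
    have hsum := sum_blockInd (G := G) hM
    set S := Finset.univ.image (fun χ : IrrCharacter G => blockOf M (χ : G → ℂ)) with hS
    have hmem : B₀ ∈ S := by
      obtain ⟨χ, hχ⟩ := isPBlock_nonempty hM hB₀
      exact Finset.mem_image.mpr ⟨χ, Finset.mem_univ _, (isPBlock_eq_blockOf hM hB₀ hχ).symm⟩
    have hd' : d = ∑ B ∈ S.erase B₀, blockInd B := by
      simp only [d, ← hsum, ← Finset.add_sum_erase _ _ hmem]
      abel
    have hlin : ofOmega d x = ∑ B ∈ S.erase B₀, ofOmega (blockInd B) x := by
      rw [hd']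
      simp only [ofOmega_eq_sum, Finset.sum_apply, Finset.sum_mul, Finset.mul_sum]
      exact Finset.sum_comm
    rw [hlin]
    refine memI_sum hM _ fun B hB => ?_
    obtain ⟨hne, hB⟩ := Finset.mem_erase.mp hB
    obtain ⟨χ, -, rfl⟩ := Finset.mem_image.mp hB
    rw [← blockCoeff_eq_ofOmega]
    by_contra hcon
    have h1 := card_le_pow_blockDefect hM ⟨χ, rfl⟩ hcon hQ hQx
    have h2 := hsmall _ ⟨χ, rfl⟩ hne
    have h3 : p ^ blockDefect p (blockOf M (χ : G → ℂ)) < p ^ r :=
      Nat.pow_lt_pow_right (Fact.out : p.Prime).one_lt h2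
    omega
  have hdR : ∀ x, MemLocalRing M (ofOmega d x) := fun x =>
    (intRing hM).sub_mem (intRing hM).one_mem (blockInd_mem_intRing hM hB₀) x
  have hUV : ∀ q q' : κ, MemLocalIdeal M ((U * V) q q' - (1 : Matrix κ κ ℂ) q q') := by
    intro q q'
    set g := q.1.out
    set w : G → ℂ := classInd q'.1.out with hw
    have hwc : IsClassFunction G w := isClassFunction_classInd _
    have h1 : (U * V) q q' = ofOmega (blockInd B₀ * omegaFun w) g := by
      rw [Matrix.mul_apply, ofOmega_eq_sum, Finset.mul_sum,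
        ← Finset.sum_subset (Finset.subset_univ B₀.toFinset) fun χ _ hχ => by
          rw [Pi.mul_apply, blockInd_of_notMem fun h => hχ (Set.mem_toFinset.mpr h)]; ring,
        Finset.sum_subtype B₀.toFinset (fun _ => Set.mem_toFinset)]
      refine Finset.sum_congr rfl fun χ _ => ?_
      simp only [U, V, Matrix.of_apply, Pi.mul_apply, blockInd_of_mem χ.2, omegaFun, g, hw]
      ring
    have h2 : (1 : Matrix κ κ ℂ) q q' = w g := by
      rw [Matrix.one_apply, hw, classInd]
      by_cases hq : q = q'
      · subst hq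
        rw [if_pos rfl, if_pos (IsConj.refl _)]
      · rw [if_neg hq, if_neg fun hc => hq (Subtype.ext ?_)]
        have h := ConjClasses.mk_eq_mk_iff_isConj.mpr hc.symm
        rwa [show ConjClasses.mk g = q.1 from Quotient.out_eq q.1,
          show ConjClasses.mk q'.1.out = q'.1 from Quotient.out_eq q'.1] at h
    have h3 : (U * V) q q' - (1 : Matrix κ κ ℂ) q q' = -(conv (ofOmega d) w g) := by
      have h4 : blockInd B₀ * omegaFun w = omegaFun w + -(d * omegaFun w) := by
        simp only [d]; ring
      rw [h1, h2, h4, ofOmega_add, ofOmega_neg, ofOmega_mul, ofOmega_omega hwc]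
      simp
    rw [h3, conv_eq_sum]
    refine memI_neg ?_
    obtain ⟨R, hR⟩ := sylowIn_exists p (Subgroup.centralizer ({g} : Set G))
    have hRp := sylowIn_isPGroup hR
    have hRr : p ^ r ≤ Nat.card R := by
      rw [sylowIn_card hR]
      exact Nat.pow_le_pow_right (Fact.out : p.Prime).pos
        (((Fact.out : p.Prime).pow_dvd_iff_le_factorization Nat.card_pos.ne').mp q.2)
    have hwR : ∀ z, MemLocalRing M (w z) := fun z => classInd_mem (locRing hM) _ z
    let S : AddSubmonoid ℂ :=
      { carrier := {z | MemLocalIdeal M ((Nat.card R : ℂ) * z)}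
        zero_mem' := by simp only [Set.mem_setOf_eq, mul_zero]; exact memI_zero hM
        add_mem' := fun ha hb => by
          simp only [Set.mem_setOf_eq, mul_add]
          exact memI_add hM ha hb }
    have key : (∑ x, ofOmega d x * w (x⁻¹ * g)) / (Nat.card R : ℂ) ∈ S := by
      refine BlocksNormal.sum_conj_invariant_mem R _ S (fun t ht z => ?_) fun z => ?_
      · rw [isClassFunction_ofOmega d z t, ← hwc (z⁻¹ * g) t]
        congr 2
        have hc : t * g = g * t := mem_centralizer_singleton.mp (sylowIn_le hR ht)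
        calc (t * z * t⁻¹)⁻¹ * g = t * z⁻¹ * (t⁻¹ * g) := by group
          _ = t * z⁻¹ * (g * t⁻¹) := by
            rw [show t⁻¹ * g = g * t⁻¹ from inv_mul_eq_of_eq_mul (by rw [← mul_assoc, hc,
              mul_inv_cancel_right])]
          _ = t * (z⁻¹ * g) * t⁻¹ := by group
      · show MemLocalIdeal M _
        set R₁ := R ⊓ Subgroup.centralizer ({z} : Set G) with hR₁
        obtain ⟨n, hn⟩ : Nat.card R₁ ∣ Nat.card R := Subgroup.card_dvd_of_le inf_le_left
        have h5 : (Nat.card R : ℂ) * (ofOmega d z * w (z⁻¹ * g) / (Nat.card R₁ : ℂ))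
            = (n : ℂ) * (ofOmega d z * w (z⁻¹ * g)) := by
          have : (Nat.card R₁ : ℂ) ≠ 0 := Nat.cast_ne_zero.mpr Nat.card_pos.ne'
          rw [hn]; push_cast; field_simp
        rw [h5]
        by_cases hpn : p ∣ n
        · exact memI_mul_right hM ((memI_natCast hM).mpr hpn) (memR_mul hM (hdR z) (hwR _))
        · have h6 : n = 1 := by
            obtain ⟨j, hj⟩ := hRp.exists_card_eq
            obtain ⟨i, -, hi⟩ := (Nat.dvd_prime_pow (Fact.out : p.Prime)).mp
              (hj ▸ Dvd.intro_left _ hn.symm : n ∣ p ^ j)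
            rcases i with _ | i
            · rw [hi, pow_zero]
            · exact absurd (hi ▸ dvd_pow_self p i.succ_ne_zero) hpn
          rw [h6, mul_one] at hn
          have hle : R ≤ Subgroup.centralizer ({z} : Set G) :=
            inf_eq_left.mp (Subgroup.eq_of_le_of_card_ge inf_le_left hn.le)
          exact memI_mul_left hM (memR_natCast hM n)
            (memI_mul_right hM (hd R hRp hRr z hle) (hwR _))
    have hR0 : (Nat.card R : ℂ) ≠ 0 := Nat.cast_ne_zero.mpr Nat.card_pos.ne'
    have key' : MemLocalIdeal M ((Nat.card R : ℂ) *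
        ((∑ x, ofOmega d x * w (x⁻¹ * g)) / (Nat.card R : ℂ))) := key
    rwa [mul_div_cancel₀ _ hR0] at key'
  -- the product is invertible modulo the local ideal
  have hUVR : ∀ q q', MemLocalRing M ((U * V) q q') := fun q q' => by
    have h := memR_of_memI (hUV q q')
    have h1 : MemLocalRing M ((1 : Matrix κ κ ℂ) q q') := by
      rw [Matrix.one_apply]; split_ifs
      exacts [memR_one hM, memR_zero hM]
    simpa using memR_add hM h h1
  let A : Matrix κ κ (locRing hM) := Matrix.of fun q q' => ⟨(U * V) q q', hUVR q q'⟩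
  let π := Ideal.Quotient.mk (BlockDefect.locIdeal hM)
  have hA : π.mapMatrix A = 1 := by
    ext q q'
    rw [RingHom.mapMatrix_apply, Matrix.map_apply, Matrix.one_apply,
      show (if q = q' then (1 : _ ⧸ BlockDefect.locIdeal hM) else 0)
        = π (if q = q' then 1 else 0) by split_ifs <;> simp, Ideal.Quotient.eq]
    show MemLocalIdeal M _
    have h := hUV q q'
    rw [Matrix.one_apply] at h
    split_ifs at h ⊢ <;> simpa [A] using h
  have hdet : (U * V).det ≠ 0 := by
    intro h0
    have h1 : (A.det : ℂ) = 0 := by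
      have := RingHom.map_det (locRing hM).subtype A
      rw [show (locRing hM).subtype.mapMatrix A = U * V from rfl, h0] at this
      exact this
    have h2 : π A.det = 1 := by rw [RingHom.map_det, hA, Matrix.det_one]
    have h3 : A.det = 0 := Subtype.ext h1
    rw [h3, map_zero] at h2
    exact not_memI_one hM (by
      have := Ideal.Quotient.eq_zero_iff_mem.mp ((map_one π).trans h2.symm)
      exact this)
  have hrank : (U * V).rank = Fintype.card κ :=
    Matrix.rank_of_isUnit _ ((Matrix.isUnit_iff_isUnit_det _).mpr (isUnit_iff_ne_zero.mpr hdet))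
  rw [Nat.card_eq_fintype_card, Nat.card_eq_fintype_card, ← hrank]
  exact (Matrix.rank_mul_le_right U V).trans (Matrix.rank_le_card_height V)

/-- The centraliser of a subgroup of a large `p`-group has boundedly many classes. -/
theorem card_conjClasses_centralizer_le {U : Subgroup G} (hU : IsPGroup p U) {r : ℕ}
    (hUr : p ^ r ∣ Nat.card U) {a : ℕ} (ha : (Nat.card G).factorization p ≤ a) :
    Nat.card (ConjClasses ↥(Subgroup.centralizer (U : Set G))) ≤
      Nat.card {q : ConjClasses G // p ^ r ∣ Nat.card (Subgroup.centralizer ({q.out} : Set G))} *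
        (p ^ a) ^ (p ^ a) := by
  classical
  have hp : p.Prime := Fact.out
  set κ := {q : ConjClasses G // p ^ r ∣ Nat.card (Subgroup.centralizer ({q.out} : Set G))}
  choose S hS using fun q : κ => sylowIn_exists p (Subgroup.centralizer ({q.1.out} : Set G))
  -- a class of the centraliser, through an element and an embedding
  have hκ : ∀ c : ↥(Subgroup.centralizer (U : Set G)), ∃ q : κ, ∃ g : G,
      g * (c : G) * g⁻¹ = q.1.out ∧ conjSub g U ≤ S q := by
    intro c
    obtain ⟨g, hg⟩ := isConj_iff.mp
      (ConjClasses.mk_eq_mk_iff_isConj.mp (Quotient.out_eq (ConjClasses.mk (c : G))).symm)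
    have hle : conjSub g U ≤ Subgroup.centralizer ({(ConjClasses.mk (c : G)).out} : Set G) := by
      intro z hz
      rw [mem_conjSub] at hz
      rw [mem_centralizer_singleton, ← hg]
      have h1 := Subgroup.mem_centralizer_iff.mp c.2 _ hz
      calc z * (g * (c : G) * g⁻¹) = g * ((g⁻¹ * z * g) * (c : G)) * g⁻¹ := by group
        _ = g * ((c : G) * (g⁻¹ * z * g)) * g⁻¹ := by rw [h1]
        _ = g * (c : G) * g⁻¹ * z := by group
    have hq : p ^ r ∣ Nat.card (Subgroup.centralizer ({(ConjClasses.mk (c : G)).out} : Set G)) :=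
      hUr.trans (card_conjSub g U ▸ Subgroup.card_dvd_of_le hle)
    obtain ⟨y, hy, hyU⟩ := le_conjSub_of_sylowIn (hS ⟨_, hq⟩) hle
      (hU.map _ : IsPGroup p (conjSub g U))
    obtain ⟨x, hx, hxU⟩ : ∃ x ∈ Subgroup.centralizer ({(ConjClasses.mk (c : G)).out} : Set G),
        conjSub x (conjSub g U) ≤ S ⟨_, hq⟩ :=
      ⟨y⁻¹, inv_mem hy, (conjSub_mono y⁻¹ hyU).trans_eq (by
        rw [conjSub_mul, inv_mul_cancel, conjSub_one])⟩
    refine ⟨⟨_, hq⟩, x * g, ?_, by rwa [← conjSub_mul]⟩
    have hxc := mem_centralizer_singleton.mp hx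
    calc x * g * (c : G) * (x * g)⁻¹ = x * (g * (c : G) * g⁻¹) * x⁻¹ := by group
      _ = (ConjClasses.mk (c : G)).out := by rw [hg, hxc, mul_inv_cancel_right]
  choose q g hg hgU using hκ
  let Φ : ConjClasses ↥(Subgroup.centralizer (U : Set G)) → Σ q : κ, U → S q := fun C =>
    ⟨q C.out, fun u => ⟨g C.out * (u : G) * (g C.out)⁻¹,
      hgU C.out (mem_conjSub.mpr (by simp [mul_assoc]))⟩⟩
  have hΦ : Function.Injective Φ := by
    intro C C' hCC
    have h1 : q C.out = q C'.out := congrArg Sigma.fst hCC
    have h2 : ∀ u : U, g C.out * (u : G) * (g C.out)⁻¹ = g C'.out * (u : G) * (g C'.out)⁻¹ := by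
      have h3 : ∀ (a b : Σ q : κ, U → S q), a = b → ∀ u, (a.2 u : G) = (b.2 u : G) :=
        fun a b h u => by subst h; rfl
      exact h3 _ _ hCC
    rw [← Quotient.out_eq C, ← Quotient.out_eq C']
    refine ConjClasses.mk_eq_mk_iff_isConj.mpr (isConj_iff.mpr ⟨⟨(g C'.out)⁻¹ * g C.out, ?_⟩, ?_⟩)
    · refine Subgroup.mem_centralizer_iff.mpr fun u hu => ?_
      calc u * ((g C'.out)⁻¹ * g C.out)
          = (g C'.out)⁻¹ * (g C'.out * u * (g C'.out)⁻¹) * g C.out := by group
        _ = (g C'.out)⁻¹ * (g C.out * u * (g C.out)⁻¹) * g C.out := by rw [h2 ⟨u, hu⟩]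
        _ = (g C'.out)⁻¹ * g C.out * u := by group
    · refine Subtype.ext ?_
      simp only [Subgroup.coe_mul, Subgroup.coe_inv]
      calc (g C'.out)⁻¹ * g C.out * (C.out : G) * ((g C'.out)⁻¹ * g C.out)⁻¹
          = (g C'.out)⁻¹ * (g C.out * (C.out : G) * (g C.out)⁻¹) * g C'.out := by group
        _ = (g C'.out)⁻¹ * (g C'.out * (C'.out : G) * (g C'.out)⁻¹) * g C'.out := by
          rw [hg, hg, h1]
        _ = (C'.out : G) := by group
  have := Fintype.ofFinite κ
  refine (Nat.card_le_card_of_injective Φ hΦ).trans ?_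
  rw [Nat.card_sigma]
  refine (Finset.sum_le_card_nsmul _ _ ((p ^ a) ^ (p ^ a)) fun q _ => ?_).trans ?_
  · rw [Nat.card_fun, sylowIn_card (hS q)]
    obtain ⟨k, hk⟩ := hU.exists_card_eq
    have hkG : p ^ k ∣ Nat.card G := hk ▸ U.card_subgroup_dvd_card
    refine (Nat.pow_le_pow_left (Nat.pow_le_pow_right hp.pos ((Nat.factorization_le_iff_dvd
      Nat.card_pos.ne' Nat.card_pos.ne').mpr (Subgroup.card_subgroup_dvd_card _) p |>.trans ha)) _).trans ?_
    refine Nat.pow_le_pow_right (pow_pos hp.pos _) ?_
    rw [hk]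
    exact Nat.pow_le_pow_right hp.pos
      (((hp.pow_dvd_iff_le_factorization Nat.card_pos.ne').mp hkG).trans ha)
  · rw [Finset.card_univ, ← Nat.card_eq_fintype_card, smul_eq_mul]

end Cfsg.Agent.TwoDeficiency
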