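import Cfsg.Agent.Lib.Cores.Basic

/-!
# Groups with a four-group of elements with small centralisers

`exists_fourGroup_bound`: a finite group with Sylow `2`-subgroups of order at most `2 ^ a` and
commuting involutions `u ≠ v` such that the centralisers of `u`, `v`, `u * v` have order at most `N`
has bounded order.
-/

set_option autoImplicit false

namespace Cfsg.Agent.TwoDeficiency

open Cfsg

universe u

variable {G : Type u} [Group G] [Finite G]

theorem card_centralizer_mk_le (K : Subgroup G) [K.Normal] (x : G) :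
    Nat.card (Subgroup.centralizer ({(x : G ⧸ K)} : Set (G ⧸ K))) ≤
      Nat.card K * Nat.card (Subgroup.centralizer ({x} : Set G)) := by
  classical
  let S := {g : G // g * x * g⁻¹ * x⁻¹ ∈ K}
  have h1 : Nat.card (Subgroup.centralizer ({(x : G ⧸ K)} : Set (G ⧸ K))) ≤ Nat.card S := by
    refine Nat.card_le_card_of_surjective (fun g : S => (⟨(g.1 : G ⧸ K), ?_⟩ :
      Subgroup.centralizer ({(x : G ⧸ K)} : Set (G ⧸ K)))) ?_
    · rw [Subgroup.mem_centralizer_singleton_iff, ← mul_inv_eq_one]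
      have h := (QuotientGroup.eq_one_iff _).mpr g.2
      simpa [mul_assoc] using h
    · rintro ⟨q, hq⟩
      obtain ⟨g, rfl⟩ := QuotientGroup.mk_surjective q
      refine ⟨⟨g, ?_⟩, rfl⟩
      rw [Subgroup.mem_centralizer_singleton_iff] at hq
      rw [← QuotientGroup.eq_one_iff, QuotientGroup.mk_mul, QuotientGroup.mk_mul,
        QuotientGroup.mk_mul, hq, QuotientGroup.mk_inv, QuotientGroup.mk_inv, mul_inv_cancel_right,
        mul_inv_cancel]
  refine h1.trans ?_
  let r : G → G := fun k => if h : ∃ g : G, g * x * g⁻¹ * x⁻¹ = k then h.choose else 1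
  have hr : ∀ g : G, r (g * x * g⁻¹ * x⁻¹) * x * (r (g * x * g⁻¹ * x⁻¹))⁻¹ = g * x * g⁻¹ := by
    intro g
    have h : ∃ g' : G, g' * x * g'⁻¹ * x⁻¹ = g * x * g⁻¹ * x⁻¹ := ⟨g, rfl⟩
    simp only [r, dif_pos h]
    exact mul_right_cancel h.choose_spec
  rw [← Nat.card_prod]
  refine Nat.card_le_card_of_injective (fun g : S =>
    ((⟨g.1 * x * g.1⁻¹ * x⁻¹, g.2⟩ : K),
      (⟨(r (g.1 * x * g.1⁻¹ * x⁻¹))⁻¹ * g.1, ?_⟩ : Subgroup.centralizer ({x} : Set G)))) ?_
  · rw [Subgroup.mem_centralizer_singleton_iff]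
    have h := hr g.1
    generalize r (g.1 * x * g.1⁻¹ * x⁻¹) = t at h
    calc t⁻¹ * g.1 * x = t⁻¹ * (g.1 * x * g.1⁻¹) * g.1 := by group
      _ = x * (t⁻¹ * g.1) := by rw [← h]; group
  · intro g g' hgg
    simp only [Prod.mk.injEq, Subtype.mk.injEq] at hgg
    rw [hgg.1] at hgg
    exact Subtype.ext (mul_left_cancel hgg.2)

theorem pow_half {O : Subgroup G} (hO : Odd (Nat.card O)) {z : G} (hz : z ∈ O) :
    (z * z) ^ ((Nat.card O + 1) / 2) = z := by
  obtain ⟨m, hm⟩ := hO
  have h1 : z ^ Nat.card O = 1 := congrArg Subtype.val (pow_card_eq_one' (x := (⟨z, hz⟩ : O)))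
  rw [← sq, ← pow_mul, show 2 * ((Nat.card O + 1) / 2) = Nat.card O + 1 by omega, pow_succ, h1,
    one_mul]

theorem card_odd_normal_le (O : Subgroup G) [O.Normal] (hO : Odd (Nat.card O)) {u v : G}
    (hu : u * u = 1) (hv : v * v = 1) (huv : u * v = v * u) :
    Nat.card O ≤ Nat.card (Subgroup.centralizer ({u} : Set G)) *
      (Nat.card (Subgroup.centralizer ({v} : Set G)) *
        Nat.card (Subgroup.centralizer ({u * v} : Set G))) := by
  classical
  set k := (Nat.card O + 1) / 2 with hk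
  have hu' : u⁻¹ = u := inv_eq_of_mul_eq_one_right hu
  have hv' : v⁻¹ = v := inv_eq_of_mul_eq_one_right hv
  have hcO : ∀ {w z : G}, z ∈ O → w * z * w⁻¹ ∈ O := fun {w z} hz =>
    Subgroup.Normal.conj_mem inferInstance z hz w
  let I := {s : G // s ∈ O ∧ u * s * u⁻¹ = s⁻¹}
  have h1 : Nat.card O ≤ Nat.card (Subgroup.centralizer ({u} : Set G)) * Nat.card I := by
    let r : G → G := fun s => if h : ∃ g : G, g⁻¹ * (u * g * u⁻¹) = s then h.choose else 1
    have hr : ∀ g : G, (r (g⁻¹ * (u * g * u⁻¹)))⁻¹ * (u * r (g⁻¹ * (u * g * u⁻¹)) * u⁻¹)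
        = g⁻¹ * (u * g * u⁻¹) := fun g => by
      have h : ∃ g' : G, g'⁻¹ * (u * g' * u⁻¹) = g⁻¹ * (u * g * u⁻¹) := ⟨g, rfl⟩
      simp only [r, dif_pos h]
      exact h.choose_spec
    rw [← Nat.card_prod]
    refine Nat.card_le_card_of_injective (fun g : O =>
      ((⟨(g : G) * (r ((g : G)⁻¹ * (u * g * u⁻¹)))⁻¹, ?_⟩ :
          Subgroup.centralizer ({u} : Set G)),
        (⟨(g : G)⁻¹ * (u * g * u⁻¹), O.mul_mem (O.inv_mem g.2) (hcO g.2), ?_⟩ : I))) ?_
    · rw [Subgroup.mem_centralizer_singleton_iff]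
      have h := hr (g : G)
      generalize r ((g : G)⁻¹ * (u * g * u⁻¹)) = t at h
      calc (g : G) * t⁻¹ * u = (g : G) * (t⁻¹ * (u * t * u⁻¹)) * u * t⁻¹ := by group
        _ = u * ((g : G) * t⁻¹) := by rw [h]; group
    · simp only [hu', mul_inv_rev, inv_inv, ← mul_assoc]
      calc u * (g : G)⁻¹ * u * (g : G) * u * u = u * (g : G)⁻¹ * u * (g : G) * (u * u) := by group
        _ = _ := by rw [hu, mul_one]
    · intro g g' hgg
      simp only [Prod.mk.injEq, Subtype.mk.injEq] at hgg
      have h2 := hgg.1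
      have h3 : (g : G)⁻¹ * (u * g * u⁻¹) = (g' : G)⁻¹ * (u * g' * u⁻¹) := congrArg Subtype.val hgg.2
      rw [h3] at h2
      exact Subtype.ext (mul_right_cancel h2)
  refine h1.trans (Nat.mul_le_mul_left _ ?_)
  -- the midpoint of `s` and its image under `v`
  let t : G → G := fun s => v * s * v⁻¹
  let y : G → G := fun s => (s * t s) ^ k * (t s)⁻¹
  let j : G → G := fun s => y s ^ k
  have hyO : ∀ s ∈ O, y s ∈ O := fun s hs =>
    O.mul_mem (O.pow_mem (O.mul_mem hs (hcO hs)) k) (O.inv_mem (hcO hs))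
  have hyeq : ∀ s ∈ O, y s * t s * y s = s := fun s hs => by
    have hz : (s * t s) ^ k * (s * t s) ^ k = s * t s := by
      rw [← (Commute.refl _).mul_pow, hk, pow_half hO (O.mul_mem hs (hcO hs))]
    calc y s * t s * y s = (s * t s) ^ k * (s * t s) ^ k * (t s)⁻¹ := by simp only [y]; group
      _ = s := by rw [hz, mul_inv_cancel_right]
  have huniq : ∀ s ∈ O, ∀ z ∈ O, z * t s * z = s → z = y s := fun s hs z hz he => by
    have h2 : (z * t s) * (z * t s) = s * t s := by rw [← mul_assoc, he]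
    have h3 := pow_half hO (O.mul_mem hz (show t s ∈ O from hcO hs))
    rw [h2, ← hk] at h3
    simp only [y]
    rw [h3, mul_inv_cancel_right]
  have hyv : ∀ s ∈ O, v * y s * v⁻¹ = (y s)⁻¹ := fun s hs => by
    have h2 : (v * y s * v⁻¹)⁻¹ = y s := by
      refine huniq s hs _ (O.inv_mem (hcO (hyO s hs))) ?_
      have h3 : t s = (v * y s * v⁻¹) * s * (v * y s * v⁻¹) := by
        have h4 := congrArg (fun w => v * w * v⁻¹) (hyeq s hs)
        calc t s = v * (y s * t s * y s) * v⁻¹ := h4.symm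
          _ = v * y s * v⁻¹ * (v * (v * s * v⁻¹) * v⁻¹) * (v * y s * v⁻¹) := by
            simp only [t]; group
          _ = _ := by
            rw [show v * (v * s * v⁻¹) * v⁻¹ = v * v * s * (v * v)⁻¹ by group, hv, one_mul, inv_one,
              mul_one]
      generalize v * y s * v⁻¹ = w at h3
      rw [h3]
      group
    rw [← h2, inv_inv, h2]
  have hyu : ∀ s : I, u * y s.1 * u⁻¹ = (y s.1)⁻¹ := fun s => by
    obtain ⟨s, hs, hsu⟩ := s
    have h2 : (u * y s * u⁻¹)⁻¹ = y s := by
      refine huniq s hs _ (O.inv_mem (hcO (hyO s hs))) ?_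
      have h5 : u * t s * u⁻¹ = (t s)⁻¹ := by
        simp only [t]
        calc u * (v * s * v⁻¹) * u⁻¹ = (u * v) * s * (u * v)⁻¹ := by group
          _ = (v * u) * s * (v * u)⁻¹ := by rw [huv]
          _ = v * (u * s * u⁻¹) * v⁻¹ := by group
          _ = (v * s * v⁻¹)⁻¹ := by rw [hsu]; group
      have h3 : s⁻¹ = (u * y s * u⁻¹) * (t s)⁻¹ * (u * y s * u⁻¹) := by
        rw [← h5, ← hsu]
        conv_lhs => rw [← hyeq s hs]
        group
      generalize u * y s * u⁻¹ = w at h3
      calc w⁻¹ * t s * w⁻¹ = (w * (t s)⁻¹ * w)⁻¹ := by group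
        _ = s := by rw [← h3, inv_inv]
    show u * y s * u⁻¹ = (y s)⁻¹
    rw [← h2, inv_inv, h2]
  rw [← Nat.card_prod]
  refine Nat.card_le_card_of_injective (fun s : I =>
    ((⟨(j s.1)⁻¹ * s.1 * (j s.1)⁻¹, ?_⟩ : Subgroup.centralizer ({v} : Set G)),
      (⟨j s.1, ?_⟩ : Subgroup.centralizer ({u * v} : Set G)))) ?_
  · rw [Subgroup.mem_centralizer_singleton_iff, eq_comm, ← mul_inv_eq_iff_eq_mul]
    have h2 : v * j s.1 * v⁻¹ = (j s.1)⁻¹ := by
      rw [show j s.1 = y s.1 ^ k from rfl, ← conj_pow, hyv s.1 s.2.1, inv_pow]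
    have h3 : j s.1 * j s.1 = y s.1 := by
      rw [show j s.1 = y s.1 ^ k from rfl, ← (Commute.refl _).mul_pow, hk,
        pow_half hO (hyO s.1 s.2.1)]
    have h4 : v * s.1 * v⁻¹ = t s.1 := rfl
    calc v * ((j s.1)⁻¹ * s.1 * (j s.1)⁻¹) * v⁻¹
        = (v * j s.1 * v⁻¹)⁻¹ * (v * s.1 * v⁻¹) * (v * j s.1 * v⁻¹)⁻¹ := by group
      _ = j s.1 * t s.1 * j s.1 := by rw [h2, h4, inv_inv]
      _ = (j s.1)⁻¹ * (j s.1 * j s.1 * t s.1 * (j s.1 * j s.1)) * (j s.1)⁻¹ := by group
      _ = _ := by rw [h3, hyeq s.1 s.2.1]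
  · rw [Subgroup.mem_centralizer_singleton_iff]
    refine (Commute.pow_left ?_ k).eq
    show y s.1 * (u * v) = u * v * y s.1
    rw [eq_comm, ← mul_inv_eq_iff_eq_mul]
    calc u * v * y s.1 * (u * v)⁻¹ = u * (v * y s.1 * v⁻¹) * u⁻¹ := by group
      _ = y s.1 := by rw [hyv s.1 s.2.1, ← conj_inv, hyu s, inv_inv]
  · intro s s' hss
    simp only [Prod.mk.injEq, Subtype.mk.injEq] at hss
    have h2 := hss.1
    rw [← hss.2] at h2
    exact Subtype.ext (mul_left_cancel (mul_right_cancel h2))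

set_option maxHeartbeats 1000000 in
/-- A minimal normal subgroup is small. -/
theorem card_minimal_normal_le (hO : pPrimeCore 2 G = ⊥) {a N : ℕ}
    (ha : (Nat.card G).factorization 2 ≤ a) {u : G} (hu : u * u = 1)
    (hN : Nat.card (Subgroup.centralizer ({u} : Set G)) ≤ N) {M : Subgroup G} [M.Normal]
    (hM : M ≠ ⊥) (hmin : ∀ L : Subgroup G, L.Normal → L ≤ M → L = ⊥ ∨ L = M) :
    Nat.card M ≤ N + 2 ^ a + ((2 * N ^ 2).factorial) ^ a := by
  classical
  have := Fintype.ofFinite G
  have h2a : ∀ i, 2 ^ i ∣ Nat.card M → i ≤ a := fun i hi =>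
    ((Nat.prime_two.pow_dvd_iff_le_factorization Nat.card_pos.ne').mp
      (hi.trans M.card_subgroup_dvd_card)).trans ha
  have hnotodd : ¬ Odd (Nat.card M) := fun hodd => hM (le_bot_iff.mp (hO ▸
    Cores.le_pPrimeCore inferInstance ((Nat.prime_two.coprime_iff_not_dvd.mpr
      (fun h => (Nat.not_even_iff_odd.mpr hodd) (even_iff_two_dvd.mpr h))).symm)))
  by_cases hcen : M ≤ Subgroup.centralizer ({u} : Set G)
  · exact ((Subgroup.card_le_of_le hcen).trans hN).trans (le_add_right (le_add_right le_rfl))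
  -- the class of `u` under `M`
  set S : Finset G := Finset.univ.image fun m : M => (m : G) * u * (m : G)⁻¹ with hS
  set n := S.card
  have hMn : Nat.card M ≤ n * N := by
    rw [Nat.card_eq_fintype_card, ← Finset.card_univ, Finset.card_eq_sum_card_image
      (fun m : M => (m : G) * u * (m : G)⁻¹)]
    refine (Finset.sum_le_card_nsmul _ _ N fun s hs => ?_).trans (le_of_eq (smul_eq_mul _ _))
    obtain ⟨m₀, -, rfl⟩ := Finset.mem_image.mp hs
    refine le_trans ?_ hN
    rw [Nat.card_eq_fintype_card, Fintype.card_subtype]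
    refine Finset.card_le_card_of_injOn (fun m : M => (m₀ : G)⁻¹ * (m : G)) (fun m hm => ?_) ?_
    · refine Finset.mem_coe.mpr (Finset.mem_filter.mpr ⟨Finset.mem_univ _, ?_⟩)
      have hm := (Finset.mem_filter.mp hm).2
      rw [Subgroup.mem_centralizer_singleton_iff]
      calc (m₀ : G)⁻¹ * m * u = (m₀ : G)⁻¹ * ((m : G) * u * (m : G)⁻¹) * m := by group
        _ = u * ((m₀ : G)⁻¹ * m) := by rw [hm]; group
    · intro m _ m' _ h
      exact Subtype.ext (mul_left_cancel h)
  have hn2 : 2 ≤ n := by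
    obtain ⟨m, hm, hmu⟩ := SetLike.not_le_iff_exists.mp hcen
    refine Finset.one_lt_card.mpr ⟨u, Finset.mem_image.mpr ⟨1, Finset.mem_univ _, by simp⟩,
      m * u * m⁻¹, Finset.mem_image.mpr ⟨⟨m, hm⟩, Finset.mem_univ _, rfl⟩, fun h => hmu ?_⟩
    exact Subgroup.mem_centralizer_singleton_iff.mpr (mul_inv_eq_iff_eq_mul.mp h.symm)
  -- a large centraliser
  obtain ⟨w, hwM, hw1, hbig⟩ : ∃ w ∈ M, w ≠ 1 ∧
      n * (n - 1) ≤ Nat.card M * Nat.card ↥(M ⊓ Subgroup.centralizer ({w} : Set G)) := by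
    have hinvol : ∀ c ∈ S, c * c = 1 ∧ c * u ∈ M := by
      intro c hc
      obtain ⟨m, -, rfl⟩ := Finset.mem_image.mp hc
      refine ⟨?_, ?_⟩
      · calc (m : G) * u * (m : G)⁻¹ * ((m : G) * u * (m : G)⁻¹) = m * (u * u) * (m : G)⁻¹ := by group
          _ = 1 := by rw [hu]; group
      · have h1 : u * (m : G)⁻¹ * u⁻¹ ∈ M :=
          Subgroup.Normal.conj_mem inferInstance _ (M.inv_mem m.2) u
        rw [inv_eq_of_mul_eq_one_right hu] at h1
        simpa [mul_assoc] using M.mul_mem m.2 h1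
    set Mset : Finset G := Finset.univ.filter fun g => g ∈ M ∧ g ≠ 1 with hMset
    set P : Finset (G × G) := S.offDiag with hP
    have hmap : ∀ q ∈ P, q.1 * q.2 ∈ Mset := by
      intro q hq
      obtain ⟨h1, h2, h3⟩ := Finset.mem_offDiag.mp hq
      refine Finset.mem_filter.mpr ⟨Finset.mem_univ _, ?_, fun h => h3 ?_⟩
      · have h4 := M.mul_mem (hinvol _ h1).2 (M.inv_mem (hinvol _ h2).2)
        have h5 : q.1 * u * (q.2 * u)⁻¹ = q.1 * q.2 := by
          rw [mul_inv_rev, ← mul_assoc, mul_inv_cancel_right,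
            inv_eq_of_mul_eq_one_right (hinvol _ h2).1]
        rwa [h5] at h4
      · rw [eq_inv_of_mul_eq_one_left h, inv_eq_of_mul_eq_one_right (hinvol _ h2).1]
    have hPn : P.card = n * (n - 1) := by
      rw [hP, Finset.offDiag_card, Nat.mul_sub_one]
    have hne : Mset.Nonempty := by
      obtain ⟨q, hq⟩ : P.Nonempty := Finset.card_pos.mp (by
        rw [hPn]; exact Nat.mul_pos (by omega) (by omega))
      exact ⟨_, hmap q hq⟩
    obtain ⟨w, hw, hmax⟩ := Finset.exists_max_image Mset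
      (fun g => Nat.card ↥(M ⊓ Subgroup.centralizer ({g} : Set G))) hne
    obtain ⟨-, hwM, hw1⟩ := Finset.mem_filter.mp hw
    refine ⟨w, hwM, hw1, ?_⟩
    rw [← hPn, Finset.card_eq_sum_card_fiberwise hmap]
    refine (Finset.sum_le_card_nsmul _ _ _ fun z hz => (?_ : _ ≤ Nat.card
      ↥(M ⊓ Subgroup.centralizer ({w} : Set G)))).trans ?_
    · refine le_trans ?_ (hmax z hz)
      -- the first entries lie in one coset
      by_cases hne' : (P.filter fun q => q.1 * q.2 = z).Nonempty
      · obtain ⟨q₀, hq₀⟩ := hne'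
        rw [Nat.card_eq_fintype_card, Fintype.card_subtype]
        refine Finset.card_le_card_of_injOn (fun q : G × G => q₀.1⁻¹ * q.1) (fun q hq => ?_) ?_
        · obtain ⟨hqP, hqz⟩ := Finset.mem_filter.mp hq
          obtain ⟨hq0P, hq0z⟩ := Finset.mem_filter.mp hq₀
          obtain ⟨a1, a2, -⟩ := Finset.mem_offDiag.mp hqP
          obtain ⟨b1, b2, -⟩ := Finset.mem_offDiag.mp hq0P
          refine Finset.mem_coe.mpr (Finset.mem_filter.mpr ⟨Finset.mem_univ _,
            Subgroup.mem_inf.mpr ⟨?_, ?_⟩⟩)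
          · show q₀.1⁻¹ * q.1 ∈ M
            have h4 := M.mul_mem (hinvol _ b1).2 (M.inv_mem (hinvol _ a1).2)
            rw [mul_inv_rev, ← mul_assoc, mul_inv_cancel_right,
              inv_eq_of_mul_eq_one_right (hinvol _ a1).1] at h4
            rwa [inv_eq_of_mul_eq_one_right (hinvol _ b1).1]
          · have h5 : ∀ c d : G, c * c = 1 → d * d = 1 → c * d = z → c * z * c⁻¹ = z⁻¹ := by
              intro c d hc hd hcd
              rw [← hcd, mul_inv_rev, inv_eq_of_mul_eq_one_right hd, inv_eq_of_mul_eq_one_right hc,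
                ← mul_assoc, hc, one_mul]
            have e1 := h5 _ _ (hinvol _ a1).1 (hinvol _ a2).1 hqz
            have e2 := h5 _ _ (hinvol _ b1).1 (hinvol _ b2).1 hq0z
            rw [Subgroup.mem_centralizer_singleton_iff]
            calc q₀.1⁻¹ * q.1 * z = q₀.1⁻¹ * (q.1 * z * q.1⁻¹) * q.1 := by group
              _ = q₀.1⁻¹ * (q₀.1 * z * q₀.1⁻¹) * q.1 := by rw [e1, e2]
              _ = z * (q₀.1⁻¹ * q.1) := by group
        · intro q hq q' hq' h
          have h1 : q.1 = q'.1 := mul_left_cancel h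
          have h2 : q.1 * q.2 = q'.1 * q'.2 :=
            (Finset.mem_filter.mp hq).2.trans (Finset.mem_filter.mp hq').2.symm
          rw [h1] at h2
          exact Prod.ext h1 (mul_left_cancel h2)
      · rw [Finset.not_nonempty_iff_eq_empty.mp hne']
        exact Nat.zero_le _
    · rw [smul_eq_mul]
      refine Nat.mul_le_mul_right _ ?_
      rw [Nat.card_eq_fintype_card, Fintype.card_subtype]
      exact Finset.card_le_card fun g hg =>
        Finset.mem_filter.mpr ⟨Finset.mem_univ _, (Finset.mem_filter.mp hg).2.1⟩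
  set K₀ : Subgroup M := (Subgroup.centralizer ({w} : Set G)).subgroupOf M with hK₀
  have hK₀idx : K₀.index ≤ 2 * N ^ 2 := by
    have hcard : Nat.card K₀ = Nat.card ↥(M ⊓ Subgroup.centralizer ({w} : Set G)) := by
      rw [hK₀, ← Subgroup.inf_subgroupOf_left]
      exact Nat.card_congr (Subgroup.subgroupOfEquivOfLe inf_le_left).toEquiv
    have hM0 : 0 < Nat.card M := Nat.card_pos
    have h1 : Nat.card M * Nat.card M ≤ Nat.card M * (Nat.card K₀ * (2 * N ^ 2)) := by
      calc Nat.card M * Nat.card M ≤ (n * N) * (n * N) := Nat.mul_le_mul hMn hMn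
        _ ≤ (2 * (n * (n - 1))) * N ^ 2 := by
          obtain ⟨m, hm⟩ : ∃ m, n = m + 2 := ⟨n - 2, by omega⟩
          rw [hm, show m + 2 - 1 = m + 1 by omega]
          nlinarith [Nat.zero_le (N ^ 2), Nat.zero_le m]
        _ ≤ (2 * (Nat.card M * Nat.card K₀)) * N ^ 2 := by rw [hcard]; gcongr
        _ = _ := by ring
    have h2 := Nat.le_of_mul_le_mul_left h1 hM0
    rw [← K₀.index_mul_card, mul_comm K₀.index] at h2
    exact Nat.le_of_mul_le_mul_left h2 Nat.card_pos
  by_cases hK₀top : K₀ = ⊤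
  · -- then `M` is abelian, so a `2`-group
    have hab : ∀ x y : M, x * y = y * x := by
      have hwc : (⟨w, hwM⟩ : M) ∈ Subgroup.center M := Subgroup.mem_center_iff.mpr fun x =>
        Subtype.ext (Subgroup.mem_centralizer_singleton_iff.mp
          (Subgroup.mem_subgroupOf.mp (hK₀top ▸ Subgroup.mem_top x : x ∈ K₀)))
      have hZn : ((Subgroup.center M).map M.subtype).Normal :=
        Cores.map_subtype_normal_of_characteristic M (Subgroup.center M)
      rcases hmin _ hZn (Subgroup.map_subtype_le _) with h | h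
      · exact absurd (Subgroup.mem_bot.mp (h ▸ ⟨⟨w, hwM⟩, hwc, rfl⟩ : w ∈ (⊥ : Subgroup G))) hw1
      · intro x y
        obtain ⟨z, hz, hzx⟩ : (x : G) ∈ (Subgroup.center M).map M.subtype := h.symm ▸ x.2
        rw [show x = z from Subtype.ext hzx.symm]
        exact ((Subgroup.mem_center_iff.mp hz) y).symm
    haveI : IsMulCommutative M := ⟨⟨hab⟩⟩
    have h2 : ∀ {q : ℕ}, q.Prime → q ∣ Nat.card M → q = 2 := by
      intro q hq hd
      by_contra hq2
      haveI : Fact q.Prime := ⟨hq⟩
      obtain ⟨Q⟩ : Nonempty (Sylow q M) := inferInstance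
      haveI : (Q : Subgroup M).Normal := ⟨fun x hx y => by rwa [hab y, mul_inv_cancel_right]⟩
      haveI := Q.characteristic_of_normal inferInstance
      have hQn : ((Q : Subgroup M).map M.subtype).Normal :=
        Cores.map_subtype_normal_of_characteristic M (Q : Subgroup M)
      have hle : (Q : Subgroup M).map M.subtype ≤ pPrimeCore 2 G := by
        refine Cores.le_pPrimeCore hQn ?_
        rw [Subgroup.card_map_of_injective M.subtype_injective, Q.card_eq_multiplicity]
        exact Nat.Coprime.pow_left _ ((Nat.coprime_primes hq Nat.prime_two).mpr hq2)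
      rw [hO, le_bot_iff, Subgroup.map_eq_bot_iff_of_injective _ M.subtype_injective] at hle
      exact Q.ne_bot_of_dvd_card hd hle
    have h3 := Nat.eq_prime_pow_of_unique_prime_dvd Nat.card_pos.ne' h2
    rw [h3]
    refine (Nat.pow_le_pow_right two_pos (h2a _ (dvd_of_eq h3.symm))).trans ?_
    omega
  -- a maximal normal subgroup of small index
  have hcore : K₀.normalCore.index ≤ (2 * N ^ 2).factorial := by
    rw [Subgroup.normalCore_eq_ker, Subgroup.index_ker]
    refine (Subgroup.card_le_card_group _).trans ?_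
    rw [Nat.card_perm]
    exact Nat.factorial_le hK₀idx
  obtain ⟨K, hK, hKmax⟩ := Finset.exists_max_image
    ((Finset.univ : Finset (Subgroup M)).filter fun L => L.Normal ∧ K₀.normalCore ≤ L ∧ L ≠ ⊤)
    (fun L => Nat.card L)
    ⟨K₀.normalCore, Finset.mem_filter.mpr ⟨Finset.mem_univ _, K₀.normalCore_normal, le_rfl,
      fun h => hK₀top (top_le_iff.mp (h.symm.le.trans K₀.normalCore_le))⟩⟩
  obtain ⟨-, hKn, hKle, hKtop⟩ := Finset.mem_filter.mp hK
  haveI := hKn
  have hKcoatom : ∀ L : Subgroup M, L.Normal → K ≤ L → L = K ∨ L = ⊤ := by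
    intro L hL hKL
    by_cases h : L = ⊤
    · exact Or.inr h
    · exact Or.inl (Subgroup.eq_of_le_of_card_ge hKL
        (hKmax L (Finset.mem_filter.mpr ⟨Finset.mem_univ _, hL, hKle.trans hKL, h⟩))).symm
  let c : G → (M ≃* M) := fun g => MulAut.conjNormal g
  let Kc : G → Subgroup M := fun g => K.map (c g).toMonoidHom
  have hKcn : ∀ g, (Kc g).Normal := fun g => hKn.map _ (c g).surjective
  have hKci : ∀ g, (Kc g).index = K.index := fun g =>
    Subgroup.index_map_of_bijective (c g).bijective K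
  have hchain : ∀ s : Finset G, ∃ j : ℕ, (s.inf Kc).index = K.index ^ j ∧ (s.inf Kc).Normal := by
    intro s
    induction s using Finset.induction_on with
    | empty => exact ⟨0, by rw [Finset.inf_empty, Subgroup.index_top, pow_zero],
        by rw [Finset.inf_empty]; infer_instance⟩
    | insert g s _ ih =>
      obtain ⟨j, hj, hn'⟩ := ih
      haveI := hn'
      haveI := hKcn g
      rw [Finset.inf_insert]
      by_cases hle : s.inf Kc ≤ Kc g
      · exact ⟨j, by rw [inf_eq_right.mpr hle, hj], by rw [inf_eq_right.mpr hle]; exact hn'⟩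
      · refine ⟨j + 1, ?_, inferInstance⟩
        have htop : Kc g ⊔ s.inf Kc = ⊤ := by
          have h1 : ((Kc g ⊔ s.inf Kc).comap (c g).toMonoidHom).Normal :=
            Subgroup.Normal.comap inferInstance _
          have h2 : K ≤ (Kc g ⊔ s.inf Kc).comap (c g).toMonoidHom := fun x hx =>
            Subgroup.mem_comap.mpr (Subgroup.mem_sup_left ⟨x, hx, rfl⟩)
          rcases hKcoatom _ h1 h2 with h | h
          · refine absurd ((le_sup_right : s.inf Kc ≤ Kc g ⊔ s.inf Kc).trans (le_of_eq ?_)) hle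
            show _ = K.map (c g).toMonoidHom
            rw [← h, Subgroup.map_comap_eq_self_of_surjective (f := (c g).toMonoidHom) (c g).surjective]
          · rw [← Subgroup.map_comap_eq_self_of_surjective (f := (c g).toMonoidHom) (c g).surjective
              (Kc g ⊔ s.inf Kc), h, Subgroup.map_top_of_surjective (c g).toMonoidHom (c g).surjective]
        rw [← Subgroup.relIndex_mul_index (inf_le_right : Kc g ⊓ s.inf Kc ≤ s.inf Kc),
          Subgroup.inf_relIndex_right, hj, pow_succ', ← hKci g]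
        congr 1
        rw [← Subgroup.relIndex_sup_left (s.inf Kc) (Kc g), htop,
          Subgroup.relIndex_top_right]
  obtain ⟨j, hj, -⟩ := hchain Finset.univ
  -- the intersection of the conjugates is trivial
  have hbot : (Finset.univ : Finset G).inf Kc = ⊥ := by
    set I := (Finset.univ : Finset G).inf Kc with hI
    have hmem : ∀ x : M, x ∈ I ↔ ∀ g, (c g).symm x ∈ K := fun x => by
      rw [hI, Finset.inf_eq_iInf]
      simp only [Finset.mem_univ, iInf_pos, Subgroup.mem_iInf, Kc, Subgroup.mem_map_equiv]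
    have hn' : (I.map M.subtype).Normal := by
      refine ⟨?_⟩
      rintro _ ⟨x, hx, rfl⟩ h
      refine ⟨c h x, (hmem _).mpr fun g => ?_, rfl⟩
      have h1 := (hmem x).mp hx (h⁻¹ * g)
      have h2 : (c g).symm (c h x) = (c (h⁻¹ * g)).symm x := by
        apply (c g).injective
        simp only [MulEquiv.apply_symm_apply]
        apply Subtype.ext
        have h4 := congrArg Subtype.val ((c (h⁻¹ * g)).apply_symm_apply x)
        simp only [c, MulAut.conjNormal_apply] at h4 ⊢
        rw [← h4]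
        group
      rwa [h2]
    rcases hmin _ hn' (Subgroup.map_subtype_le _) with h | h
    · exact (Subgroup.map_eq_bot_iff_of_injective _ M.subtype_injective).mp h
    · refine absurd (eq_top_iff.mpr fun x _ => ?_) hKtop
      obtain ⟨z, hz, hzx⟩ : (x : G) ∈ I.map M.subtype := h.symm ▸ x.2
      have h1 := (hmem z).mp hz 1
      have h2 : (c 1).symm z = x := by
        apply (c 1).injective
        rw [MulEquiv.apply_symm_apply]
        exact Subtype.ext (by simp [c, ← hzx])
      rwa [h2] at h1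
  rw [hbot, Subgroup.index_bot] at hj
  have hev : 2 ∣ K.index := by
    by_contra hd
    refine hnotodd (Nat.odd_iff.mpr (Nat.two_dvd_ne_zero.mp fun h => ?_))
    exact hd (Nat.prime_two.dvd_of_dvd_pow (hj ▸ h))
  have hja : j ≤ a := h2a j (hj ▸ pow_dvd_pow_of_dvd hev j)
  have hKidx : K.index ≤ (2 * N ^ 2).factorial :=
    (Nat.le_of_dvd (Nat.pos_of_ne_zero Subgroup.index_ne_zero_of_finite)
      (Subgroup.index_dvd_of_le hKle)).trans hcore
  refine le_trans ?_ (Nat.le_add_left _ _)
  rw [hj]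
  exact (Nat.pow_le_pow_right (Nat.pos_of_ne_zero Subgroup.index_ne_zero_of_finite) hja).trans
    (Nat.pow_le_pow_left hKidx a)

/-- Small centralisers of a four-group bound the order. -/
theorem exists_fourGroup_bound : ∀ a N : ℕ, ∃ F : ℕ, ∀ (G : Type u) [Group G] [Finite G],
    (Nat.card G).factorization 2 ≤ a → ∀ u v : G, u * u = 1 → u ≠ 1 → v * v = 1 → v ≠ 1 →
      u ≠ v → u * v = v * u →
      Nat.card (Subgroup.centralizer ({u} : Set G)) ≤ N →
      Nat.card (Subgroup.centralizer ({v} : Set G)) ≤ N →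
      Nat.card (Subgroup.centralizer ({u * v} : Set G)) ≤ N → Nat.card G ≤ F := by
  intro a
  induction a with
  | zero =>
    intro N
    refine ⟨0, fun G _ _ ha u v hu hu1 hv hv1 hne hc _ _ _ => ?_⟩
    exfalso
    have h1 : orderOf u = 2 := orderOf_eq_prime (by rw [sq, hu]) hu1
    have h2 : 2 ∣ Nat.card G := h1 ▸ orderOf_dvd_natCard u
    have h3 := (Nat.prime_two.dvd_iff_one_le_factorization Nat.card_pos.ne').mp h2
    omega
  | succ a ih =>
    intro N
    set N₁ := N * (N * N) * N with hN₁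
    set m := N₁ + 2 ^ (a + 1) + ((2 * N₁ ^ 2).factorial) ^ (a + 1) with hm
    obtain ⟨F, hF⟩ := ih (m * N₁)
    refine ⟨N * (N * N) * (m * N₁ + m * F), fun G _ _ ha u v hu hu1 hv hv1 hne hc hNu hNv hNw => ?_⟩
    classical
    set O := pPrimeCore 2 G with hOdef
    have hOodd : Odd (Nat.card O) := by
      rw [← Nat.not_even_iff_odd, even_iff_two_dvd]
      exact Nat.prime_two.coprime_iff_not_dvd.mp (Cores.coprime_card_pPrimeCore 2).symm
    have hOcard : Nat.card O ≤ N * (N * N) :=
      (card_odd_normal_le O hOodd hu hv hc).trans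
        (Nat.mul_le_mul hNu (Nat.mul_le_mul hNv hNw))
    have hout : ∀ x : G, x * x = 1 → x ≠ 1 → x ∉ O := fun x hx hx1 hxO => by
      have h1 : orderOf x = 2 := orderOf_eq_prime (by rw [sq, hx]) hx1
      have h2 := h1 ▸ Subgroup.orderOf_dvd_natCard O hxO
      exact (Nat.not_even_iff_odd.mpr hOodd) (even_iff_two_dvd.mpr h2)
    have huv2 : (u * v) * (u * v) = 1 := by
      rw [mul_assoc, ← mul_assoc v u v, ← hc, mul_assoc u v v, hv, mul_one, hu]
    have huv1 : u * v ≠ 1 := fun h => hne (by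
      rw [eq_inv_of_mul_eq_one_left h, inv_eq_of_mul_eq_one_right hv])
    have hCQ : ∀ x : G, Nat.card (Subgroup.centralizer ({x} : Set G)) ≤ N →
        Nat.card (Subgroup.centralizer ({(x : G ⧸ O)} : Set (G ⧸ O))) ≤ N₁ := fun x hx =>
      (card_centralizer_mk_le O x).trans (Nat.mul_le_mul hOcard hx)
    set π := QuotientGroup.mk' O with hπ
    rw [Subgroup.card_eq_card_quotient_mul_card_subgroup O, mul_comm (Nat.card (G ⧸ O))]
    refine Nat.mul_le_mul hOcard ?_
    -- the quotient
    set X := G ⧸ O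
    have hXO : pPrimeCore 2 X = ⊥ := Cores.pPrimeCore_quotient_self 2
    have haX : (Nat.card X).factorization 2 ≤ a + 1 :=
      ((Nat.factorization_le_iff_dvd Nat.card_pos.ne' Nat.card_pos.ne').mpr
        (Subgroup.card_quotient_dvd_card O) 2).trans ha
    have himg : ∀ x : G, x * x = 1 → x ≠ 1 → π x * π x = 1 ∧ π x ≠ 1 := fun x hx hx1 =>
      ⟨by rw [← map_mul, hx, map_one], fun h => hout x hx hx1 ((QuotientGroup.eq_one_iff x).mp h)⟩
    obtain ⟨hu', hu1'⟩ := himg u hu hu1
    obtain ⟨hv', hv1'⟩ := himg v hv hv1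
    obtain ⟨-, huv1'⟩ := himg _ huv2 huv1
    have hne' : π u ≠ π v := fun h => huv1' (by rw [map_mul, h, hv'])
    have hc' : π u * π v = π v * π u := by rw [← map_mul, ← map_mul, hc]
    have hCu : Nat.card (Subgroup.centralizer ({π u} : Set X)) ≤ N₁ := hCQ u hNu
    have hCv : Nat.card (Subgroup.centralizer ({π v} : Set X)) ≤ N₁ := hCQ v hNv
    have hCw : Nat.card (Subgroup.centralizer ({π u * π v} : Set X)) ≤ N₁ := by
      rw [← map_mul]; exact hCQ (u * v) hNw
    -- a minimal normal subgroup of the quotient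
    have := Fintype.ofFinite (Subgroup X)
    have hnt : Nontrivial X := ⟨⟨π u, 1, hu1'⟩⟩
    obtain ⟨M, hMset, hMmin⟩ := Finset.exists_min_image
      (Finset.univ.filter fun L : Subgroup X => L.Normal ∧ L ≠ ⊥)
      (fun L => Nat.card L) ⟨⊤, Finset.mem_filter.mpr ⟨Finset.mem_univ _, inferInstance, top_ne_bot⟩⟩
    obtain ⟨-, hMn, hMne⟩ := Finset.mem_filter.mp hMset
    haveI := hMn
    have hmin : ∀ L : Subgroup X, L.Normal → L ≤ M → L = ⊥ ∨ L = M := fun L hL hLM => by
      by_cases h : L = ⊥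
      · exact Or.inl h
      · exact Or.inr (Subgroup.eq_of_le_of_card_ge hLM
          (hMmin L (Finset.mem_filter.mpr ⟨Finset.mem_univ _, hL, h⟩)))
    have hMcard : Nat.card M ≤ m := card_minimal_normal_le hXO haX hu' hCu hMne hmin
    by_cases hin : π u ∈ M ∨ π v ∈ M ∨ π u * π v ∈ M
    · -- an involution in `M`
      obtain ⟨x, hxM, hCx⟩ : ∃ x ∈ M, Nat.card (Subgroup.centralizer ({x} : Set X)) ≤ N₁ := by
        rcases hin with h | h | h
        exacts [⟨_, h, hCu⟩, ⟨_, h, hCv⟩, ⟨_, h, hCw⟩]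
      refine le_trans ?_ (Nat.le_add_right _ _)
      calc Nat.card X = (Subgroup.centralizer ({x} : Set X)).index *
            Nat.card (Subgroup.centralizer ({x} : Set X)) :=
          (Subgroup.index_mul_card _).symm
        _ ≤ m * N₁ := by
          refine Nat.mul_le_mul (le_trans ?_ hMcard) hCx
          rw [Subgroup.index_eq_card]
          refine Nat.card_le_card_of_injective (fun q : X ⧸ Subgroup.centralizer ({x} : Set X) =>
            (⟨q.out * x * q.out⁻¹, hMn.conj_mem x hxM q.out⟩ : M)) fun q q' h => ?_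
          have h1 : q.out * x * q.out⁻¹ = q'.out * x * q'.out⁻¹ := congrArg Subtype.val h
          rw [← Quotient.out_eq q, ← Quotient.out_eq q']
          refine QuotientGroup.eq.mpr (Subgroup.mem_centralizer_singleton_iff.mpr ?_)
          calc q.out⁻¹ * q'.out * x = q.out⁻¹ * (q'.out * x * q'.out⁻¹) * q'.out := by group
            _ = x * (q.out⁻¹ * q'.out) := by rw [← h1]; group
    · push Not at hin
      obtain ⟨huM, hvM, hwM⟩ := hin
      refine le_trans ?_ (Nat.le_add_left _ _)
      rw [Subgroup.card_eq_card_quotient_mul_card_subgroup M, mul_comm m]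
      refine Nat.mul_le_mul ?_ hMcard
      set π₂ := QuotientGroup.mk' M with hπ₂
      have hker : ∀ x, x ∉ M → π₂ x ≠ 1 := fun x hx h => hx ((QuotientGroup.eq_one_iff x).mp h)
      have hMeven : 2 ∣ Nat.card M := by
        by_contra hd
        exact hMne (le_bot_iff.mp (hXO ▸ Cores.le_pPrimeCore hMn
          (Nat.prime_two.coprime_iff_not_dvd.mpr hd).symm))
      have haq : (Nat.card (X ⧸ M)).factorization 2 ≤ a := by
        have h1 := (Nat.prime_two.dvd_iff_one_le_factorization Nat.card_pos.ne').mp hMeven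
        have h2 := haX
        rw [Subgroup.card_eq_card_quotient_mul_card_subgroup M,
          Nat.factorization_mul Nat.card_pos.ne' Nat.card_pos.ne', Finsupp.add_apply] at h2
        omega
      refine hF (X ⧸ M) haq (π₂ (π u)) (π₂ (π v)) (by rw [← map_mul, hu', map_one]) (hker _ huM)
        (by rw [← map_mul, hv', map_one]) (hker _ hvM) (fun h => hker _ hwM ?_)
        (by rw [← map_mul π₂, ← map_mul π₂, hc']) ?_ ?_ ?_
      · rw [map_mul, h, ← map_mul, hv', map_one]
      · exact (card_centralizer_mk_le M _).trans (Nat.mul_le_mul hMcard hCu)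
      · exact (card_centralizer_mk_le M _).trans (Nat.mul_le_mul hMcard hCv)
      · rw [← map_mul π₂]
        exact (card_centralizer_mk_le M _).trans (Nat.mul_le_mul hMcard hCw)

end Cfsg.Agent.TwoDeficiency
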